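import Mathlib.RingTheory.Length
import Mathlib.RingTheory.Filtration
import Mathlib.RingTheory.Ideal.Quotient.Operations
import Mathlib.RingTheory.Regular.RegularSequence
import Mathlib.RingTheory.Ideal.Colon
import Mathlib.RingTheory.Noetherian.Basic

/-!
# Lengths of quotients by ideals
-/

universe u v

namespace Groth.Agent.NodeH28

variable {A : Type u} [CommRing A]

/-- Length of `A / I`. -/
noncomputable abbrev ql (I : Ideal A) : ℕ∞ := Module.length A (A ⧸ I)

lemma ql_top : ql (⊤ : Ideal A) = 0 := by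
  haveI : Subsingleton (A ⧸ (⊤ : Ideal A)) := Ideal.Quotient.subsingleton_iff.2 rfl
  exact Module.length_eq_zero

lemma ql_eq_one (I : Ideal A) [hI : I.IsMaximal] : ql I = 1 :=
  Module.length_eq_one_iff.2 (isSimpleModule_iff_isCoatom.2 hI.out)

/-- The sequence `0 → A/(K : x) → A/K → A/(K + (x)) → 0`. -/
theorem ql_colon (K L : Ideal A) (x : A) (h : ∀ y, x * y ∈ K ↔ y ∈ L) :
    ql K = ql L + ql (K ⊔ Ideal.span {x}) := by
  have hf : L ≤ Submodule.comap (LinearMap.mul A A x) K := fun y hy => (h y).2 hy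
  have hg : K ≤ Submodule.comap (LinearMap.id : A →ₗ[A] A) (K ⊔ Ideal.span {x}) :=
    fun y hy => Submodule.mem_sup_left hy
  let f : (A ⧸ L) →ₗ[A] A ⧸ K := Submodule.mapQ L K (LinearMap.mul A A x) hf
  let g : (A ⧸ K) →ₗ[A] A ⧸ (K ⊔ Ideal.span {x}) := Submodule.mapQ K _ LinearMap.id hg
  refine Module.length_eq_add_of_exact f g ?_ ?_ ?_
  · rw [← LinearMap.ker_eq_bot, eq_bot_iff]
    intro z hz
    obtain ⟨y, rfl⟩ := Submodule.Quotient.mk_surjective L z
    rw [LinearMap.mem_ker] at hz
    simp only [f, Submodule.mapQ_apply, Submodule.Quotient.mk_eq_zero] at hz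
    rw [Submodule.mem_bot, Submodule.Quotient.mk_eq_zero]
    exact (h y).1 hz
  · intro z
    obtain ⟨y, rfl⟩ := Submodule.Quotient.mk_surjective _ z
    exact ⟨Submodule.Quotient.mk y, rfl⟩
  · intro z
    obtain ⟨y, rfl⟩ := Submodule.Quotient.mk_surjective _ z
    constructor
    · intro hy
      simp only [g, Submodule.mapQ_apply, LinearMap.id_apply, Submodule.Quotient.mk_eq_zero] at hy
      obtain ⟨a, ha, b, hb, hab⟩ := Submodule.mem_sup.1 hy
      obtain ⟨c, rfl⟩ := Ideal.mem_span_singleton'.1 hb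
      refine ⟨Submodule.Quotient.mk c, ?_⟩
      simp only [f, Submodule.mapQ_apply]
      rw [Submodule.Quotient.eq]
      have : x * c - y = -a := by rw [← hab]; ring
      show x * c - y ∈ K
      rw [this]
      exact K.neg_mem ha
    · rintro ⟨w, hw⟩
      obtain ⟨c, rfl⟩ := Submodule.Quotient.mk_surjective _ w
      rw [← hw]
      simp only [f, g, Submodule.mapQ_apply, Submodule.Quotient.mk_eq_zero]
      exact Submodule.mem_sup_right (Ideal.mem_span_singleton'.2 ⟨c, mul_comm c x⟩)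

/-- `len A/(aI + (b)) = len A/(a, b) + len A/(I + (b))` for `a` regular modulo `b`. -/
theorem ql_mul_sup (a b : A) (I : Ideal A) (ha : IsSMulRegular (A ⧸ Ideal.span ({b} : Set A)) a) :
    ql (Ideal.span {a} * I ⊔ Ideal.span {b}) = ql (Ideal.span ({a, b} : Set A)) + ql (I ⊔ Ideal.span {b}) := by
  have e : Ideal.span {a} * I ⊔ Ideal.span {b} ⊔ Ideal.span {a} = Ideal.span ({a, b} : Set A) := by
    rw [Ideal.span_insert]
    have h1 : Ideal.span {a} * I ≤ Ideal.span {a} := Ideal.mul_le_left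
    rw [sup_right_comm, sup_eq_right.2 h1]
  rw [ql_colon (Ideal.span {a} * I ⊔ Ideal.span {b}) (I ⊔ Ideal.span {b}) a, e]
  · exact add_comm _ _
  · intro y
    constructor
    · intro hy
      obtain ⟨p, hp, q, hq, hpq⟩ := Submodule.mem_sup.1 hy
      obtain ⟨i, hi, rfl⟩ := Ideal.mem_span_singleton_mul.1 hp
      have h1 : a • Ideal.Quotient.mk (Ideal.span {b}) y = a • Ideal.Quotient.mk (Ideal.span {b}) i := by
        show Ideal.Quotient.mk (Ideal.span {b}) (a * y) = Ideal.Quotient.mk (Ideal.span {b}) (a * i)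
        rw [Ideal.Quotient.eq, ← hpq, add_sub_cancel_left]
        exact hq
      have h2 := Ideal.Quotient.eq.1 (ha h1)
      rw [← sub_add_cancel y i]
      exact add_mem (Submodule.mem_sup_right h2) (Submodule.mem_sup_left hi)
    · intro hy
      obtain ⟨i, hi, q, hq, rfl⟩ := Submodule.mem_sup.1 hy
      rw [mul_add]
      exact add_mem (Submodule.mem_sup_left (Ideal.mul_mem_mul (Ideal.mem_span_singleton_self a) hi))
        (Submodule.mem_sup_right (Ideal.mul_mem_left _ a hq))

/-- `len A/(x^n, b) = n · len A/(x, b)`. -/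
theorem ql_pow (x b : A) (hx : IsSMulRegular (A ⧸ Ideal.span ({b} : Set A)) x) (n : ℕ) :
    ql (Ideal.span ({x ^ n, b} : Set A)) = n * ql (Ideal.span ({x, b} : Set A)) := by
  induction n with
  | zero =>
    rw [Nat.cast_zero, zero_mul, show Ideal.span ({x ^ 0, b} : Set A) = ⊤ from
      (Ideal.eq_top_iff_one _).2 (Ideal.subset_span (by simp)), ql_top]
  | succ n ih =>
    have h := ql_mul_sup x b (Ideal.span {x ^ n}) hx
    rw [Ideal.span_singleton_mul_span_singleton, ← pow_succ', ← Ideal.span_insert, ← Ideal.span_insert] at h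
    rw [h, ih, Nat.cast_succ, add_mul, one_mul, add_comm]

/-- Lengths along a surjection. -/
theorem ql_map {S : Type v} [CommRing S] (f : A →+* S) (hf : Function.Surjective f) (I : Ideal A)
    (hI : RingHom.ker f ≤ I) : ql I = ql (I.map f) := by
  letI := f.toAlgebra
  haveI : IsScalarTower A S (S ⧸ I.map f) := inferInstance
  let φ : A →ₗ[A] S ⧸ I.map f := (Ideal.Quotient.mkₐ A (I.map f)).toLinearMap ∘ₗ Algebra.linearMap A S
  have hker : LinearMap.ker φ = I := by
    ext x
    show Ideal.Quotient.mk (I.map f) (f x) = 0 ↔ x ∈ I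
    rw [Ideal.Quotient.eq_zero_iff_mem]
    constructor
    · intro h
      obtain ⟨y, hy, hyx⟩ := (Ideal.mem_map_iff_of_surjective f hf).1 h
      rw [← sub_add_cancel x y]
      exact add_mem (hI (by rw [RingHom.mem_ker, map_sub, hyx, sub_self])) hy
    · exact Ideal.mem_map_of_mem f
  have hsurj : Function.Surjective φ := by
    intro z
    obtain ⟨s, rfl⟩ := Ideal.Quotient.mk_surjective z
    obtain ⟨x, rfl⟩ := hf s
    exact ⟨x, rfl⟩
  rw [ql]
  conv_lhs => rw [← hker, (φ.quotKerEquivOfSurjective hsurj).length_eq]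
  exact Module.length_eq_of_surjective (R := S) (S := A) (M := S ⧸ I.map f) hf

/-- Agreement of two endomorphisms modulo a closed ideal. -/
theorem sub_mem_of_gen [IsNoetherianRing A] [IsLocalRing A] {B : Type v} [CommRing B] [Algebra B A]
    {ι : Type*} [Fintype ι] (x : ι → A) (hx : ∀ i, x i ∈ IsLocalRing.maximalIdeal A)
    (hdec : ∀ r : A, ∃ (b : B) (c : ι → A), r = algebraMap B A b + ∑ i, x i * c i)
    (σ τ : A →+* A) (hσ : ∀ i, σ (x i) ∈ IsLocalRing.maximalIdeal A) (J : Ideal A)
    (hB : ∀ b, σ (algebraMap B A b) - τ (algebraMap B A b) ∈ J) (hgen : ∀ i, σ (x i) - τ (x i) ∈ J) (r : A) :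
    σ r - τ r ∈ J := by
  by_cases hJ : J = ⊤
  · rw [hJ]; exact Submodule.mem_top
  have hnt : Nontrivial (A ⧸ J) := Ideal.Quotient.nontrivial_iff.2 hJ
  haveI : IsLocalRing (A ⧸ J) :=
    IsLocalRing.of_surjective' (Ideal.Quotient.mk J) Ideal.Quotient.mk_surjective
  set f := Ideal.Quotient.mk J
  have key : ∀ (n : ℕ) (r : A), f (σ r) - f (τ r) ∈ IsLocalRing.maximalIdeal (A ⧸ J) ^ n := by
    intro n
    induction n with
    | zero => intro r; simp
    | succ n ih =>
      intro r
      obtain ⟨b, c, hr⟩ := hdec r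
      have h1 : f (σ r) - f (τ r) = ∑ i, f (σ (x i)) * (f (σ (c i)) - f (τ (c i))) := by
        rw [hr]
        simp only [map_add, map_sum, map_mul, mul_sub, Finset.sum_sub_distrib,
          Ideal.Quotient.eq.2 (hB b), f]
        have : ∀ i, Ideal.Quotient.mk J (τ (x i)) = Ideal.Quotient.mk J (σ (x i)) :=
          fun i => (Ideal.Quotient.eq.2 (hgen i)).symm
        simp only [this]
        ring
      rw [h1, pow_succ']
      refine sum_mem fun i _ => Ideal.mul_mem_mul ?_ (ih _)
      rw [IsLocalRing.mem_maximalIdeal, mem_nonunits_iff]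
      intro hu
      obtain ⟨u, hu'⟩ := Ideal.Quotient.mk_surjective (I := J) (↑hu.unit⁻¹)
      have h2 : σ (x i) * u - 1 ∈ J := by
        rw [← Ideal.Quotient.eq, map_mul, hu', map_one, IsUnit.mul_val_inv]
      exact (IsLocalRing.maximalIdeal.isMaximal A).ne_top ((Ideal.eq_top_iff_one _).2
        (by simpa using sub_mem (Ideal.mul_mem_right u _ (hσ i)) (IsLocalRing.le_maximalIdeal hJ h2)))
  have h0 : f (σ r) - f (τ r) ∈ (⨅ n, IsLocalRing.maximalIdeal (A ⧸ J) ^ n) := Ideal.mem_iInf.2 fun n => key n r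
  haveI : IsNoetherianRing (A ⧸ J) := isNoetherianRing_of_surjective A (A ⧸ J) (Ideal.Quotient.mk J) Ideal.Quotient.mk_surjective
  rw [Ideal.iInf_pow_eq_bot_of_isLocalRing _ (IsLocalRing.maximalIdeal.isMaximal _).ne_top, Ideal.mem_bot,
    sub_eq_zero] at h0
  exact Ideal.Quotient.eq.1 h0

end Groth.Agent.NodeH28
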