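import Groth.Prelude.Def_W4c2arithlefschetzNode
import Groth.Agent.Lib.NodeH28.Len
import Mathlib.RingTheory.MvPowerSeries.Rename
import Mathlib.RingTheory.MvPowerSeries.NoZeroDivisors
import Mathlib.RingTheory.MvPowerSeries.Equiv
import Mathlib.RingTheory.PowerSeries.Inverse
import Mathlib.RingTheory.DiscreteValuationRing.Basic
import Mathlib.RingTheory.Nakayama
import Mathlib.RingTheory.LocalRing.ResidueField.Basic
import Mathlib.RingTheory.Ideal.MinimalPrime.Localization
import Mathlib.RingTheory.Noetherian.Basic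

/-!
# The formal double point
-/

open MvPowerSeries IsLocalRing

universe u

namespace Groth.Agent.NodeH28

set_option linter.unusedSectionVars false

variable {B : Type u} [CommRing B] [IsLocalRing B] [IsNoetherianRing B] {π : B}
  (hπ : maximalIdeal B = Ideal.span {π})

local notation "N" => ArLef.NodeAlg B π
local notation "k" => ResidueField B

/-- The two variables. -/
noncomputable abbrev var (π : B) (i : Fin 2) : ArLef.NodeAlg B π := Ideal.Quotient.mk _ (MvPowerSeries.X i)

/-- The other index. -/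
def oth (i : Fin 2) : Fin 2 := 1 - i

lemma oth_ne (i : Fin 2) : oth i ≠ i := by fin_cases i <;> decide

lemma oth_oth (i : Fin 2) : oth (oth i) = i := by fin_cases i <;> rfl

lemma eq_oth {i j : Fin 2} (h : j ≠ i) : j = oth i := by
  fin_cases i <;> fin_cases j <;> simp_all [oth]

lemma var_zero : var π 0 = ArLef.NodeAlg.t π := rfl

lemma var_one : var π 1 = ArLef.NodeAlg.e π := rfl

lemma var_mul_oth (i : Fin 2) : var π i * var π (oth i) = algebraMap B N π := by
  have h : ArLef.NodeAlg.t π * ArLef.NodeAlg.e π = algebraMap B N π := by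
    show Ideal.Quotient.mk _ _ * Ideal.Quotient.mk _ _ = _
    rw [← map_mul, IsScalarTower.algebraMap_apply B (MvPowerSeries (Fin 2) B) N]
    exact Ideal.Quotient.eq.2 (Ideal.mem_span_singleton_self _)
  fin_cases i
  · exact h
  · rw [← h]; exact mul_comm _ _

/-- Coordinate embedding. -/
def emb (i : Fin 2) : Unit ↪ Fin 2 := ⟨fun _ => oth i, fun _ _ _ => rfl⟩

/-- Restriction of series to the branch `X i = 0`. -/
noncomputable def brAux (i : Fin 2) : MvPowerSeries (Fin 2) B →+* PowerSeries (ResidueField B) :=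
  (MvPowerSeries.map (residue B)).comp (killCompl (R := B) (emb i)).toRingHom

lemma brAux_X_self (i : Fin 2) : brAux (B := B) i (MvPowerSeries.X i) = 0 := by
  have : killCompl (R := B) (emb i) (MvPowerSeries.X i) = 0 :=
    killCompl_X_eq_zero (fun ⟨_, h⟩ => oth_ne i h)
  show MvPowerSeries.map (residue B) (killCompl (R := B) (emb i) (MvPowerSeries.X i)) = 0
  rw [this, map_zero]

lemma brAux_X_oth (i : Fin 2) : brAux (B := B) i (MvPowerSeries.X (oth i)) = PowerSeries.X := by
  have : killCompl (R := B) (emb i) (MvPowerSeries.X (oth i)) = MvPowerSeries.X () := killCompl_X (e := emb i) ()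
  show MvPowerSeries.map (residue B) (killCompl (R := B) (emb i) (MvPowerSeries.X (oth i))) = _
  rw [this, MvPowerSeries.map_X]
  rfl

lemma brAux_C (i : Fin 2) (b : B) : brAux i (MvPowerSeries.C b) = PowerSeries.C (residue B b) := by
  show MvPowerSeries.map (residue B) (killCompl (R := B) (emb i) (MvPowerSeries.C b)) = _
  rw [killCompl_C, MvPowerSeries.map_C]
  rfl

instance instNoetherian : IsNoetherianRing N :=
  isNoetherianRing_of_surjective (MvPowerSeries (Fin 2) B) N (Ideal.Quotient.mk _) Ideal.Quotient.mk_surjective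

include hπ

lemma residue_pi : residue B π = 0 := (residue_eq_zero_iff π).2 (hπ ▸ Ideal.mem_span_singleton_self π)

/-- Restriction to the branch `var i = 0`. -/
noncomputable def br (i : Fin 2) : ArLef.NodeAlg B π →+* PowerSeries (ResidueField B) :=
  Ideal.Quotient.lift _ (brAux i) fun x hx => by
    obtain ⟨c, rfl⟩ := Ideal.mem_span_singleton'.1 hx
    have h1 : brAux (B := B) i (MvPowerSeries.X 0) * brAux (B := B) i (MvPowerSeries.X 1) = 0 := by
      fin_cases i
      · exact mul_eq_zero_of_left (brAux_X_self 0) _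
      · exact mul_eq_zero_of_right _ (brAux_X_self 1)
    rw [map_mul, map_sub, map_mul, h1, brAux_C, residue_pi hπ, map_zero, sub_zero, mul_zero]

lemma br_mk (i : Fin 2) (r : MvPowerSeries (Fin 2) B) : br hπ i (Ideal.Quotient.mk _ r) = brAux i r := rfl

lemma br_self (i : Fin 2) : br hπ i (var π i) = 0 := brAux_X_self i

lemma br_oth (i : Fin 2) : br hπ i (var π (oth i)) = PowerSeries.X := brAux_X_oth i

lemma br_algebraMap (i : Fin 2) (b : B) : br hπ i (algebraMap B N b) = PowerSeries.C (residue B b) := by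
  rw [IsScalarTower.algebraMap_apply B (MvPowerSeries (Fin 2) B) N]
  exact brAux_C i b

lemma br_surjective (i : Fin 2) : Function.Surjective (br hπ i) := by
  intro s
  let S : MvPowerSeries Unit B := fun d => Function.surjInv residue_surjective (MvPowerSeries.coeff d s)
  refine ⟨Ideal.Quotient.mk _ (rename (emb i) S), ?_⟩
  rw [br_mk]
  show MvPowerSeries.map (residue B) (killCompl (R := B) (emb i) (rename (emb i) S)) = s
  rw [killCompl_rename_app]
  refine MvPowerSeries.ext fun d => ?_
  rw [MvPowerSeries.coeff_map]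
  exact Function.surjInv_eq residue_surjective _

lemma brAux_eq_zero (i : Fin 2) {r : MvPowerSeries (Fin 2) B} (hr : brAux i r = 0) :
    ∃ q s, r = MvPowerSeries.X i * q + MvPowerSeries.C π * s := by
  classical
  have h1 : ∀ d : Fin 2 →₀ ℕ, d i = 0 → π ∣ MvPowerSeries.coeff d r := by
    intro d hd
    have h2 := congrArg (MvPowerSeries.coeff (Finsupp.single () (d (oth i)))) hr
    change MvPowerSeries.coeff _ (MvPowerSeries.map (residue B) (killCompl (R := B) (emb i) r)) = _ at h2
    rw [MvPowerSeries.coeff_map, coeff_killCompl, Finsupp.embDomain_single] at h2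
    have hd' : Finsupp.single (emb i ()) (d (oth i)) = d := by
      ext j
      show Finsupp.single (oth i) (d (oth i)) j = d j
      rcases eq_or_ne j i with rfl | hji
      · rw [Finsupp.single_apply, if_neg (oth_ne j), hd]
      · rw [eq_oth hji, Finsupp.single_eq_same]
    rw [hd', map_zero, residue_eq_zero_iff, hπ, Ideal.mem_span_singleton] at h2
    exact h2
  choose s hs using h1
  let S : MvPowerSeries (Fin 2) B := fun d => if h : d i = 0 then s d h else 0
  have hdvd : MvPowerSeries.X i ∣ r - MvPowerSeries.C π * S := by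
    rw [MvPowerSeries.X_dvd_iff]
    intro d hd
    rw [map_sub, MvPowerSeries.coeff_C_mul, hs d hd, sub_eq_zero]
    show π * s d hd = π * S d
    simp [S, hd]
  obtain ⟨q, hq⟩ := hdvd
  exact ⟨q, S, by rw [← hq]; ring⟩

/-- The branch ideal is the kernel. -/
lemma br_eq_zero_iff (i : Fin 2) (x : ArLef.NodeAlg B π) : br hπ i x = 0 ↔ var π i ∣ x := by
  constructor
  · intro hx
    obtain ⟨r, rfl⟩ := Ideal.Quotient.mk_surjective x
    obtain ⟨q, s, rfl⟩ := brAux_eq_zero hπ i hx
    rw [map_add, map_mul, map_mul]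
    refine dvd_add (dvd_mul_right _ _) (Dvd.dvd.mul_right ?_ _)
    exact ⟨var π (oth i), by rw [var_mul_oth, IsScalarTower.algebraMap_apply B (MvPowerSeries (Fin 2) B) N]; rfl⟩
  · rintro ⟨c, rfl⟩
    rw [map_mul, br_self, zero_mul]

lemma ker_br (i : Fin 2) : RingHom.ker (br hπ i) = Ideal.span {var π i} := by
  ext x
  rw [RingHom.mem_ker, br_eq_zero_iff, Ideal.mem_span_singleton]

lemma span_var_isPrime (i : Fin 2) : (Ideal.span {var π i}).IsPrime := ker_br hπ i ▸ RingHom.ker_isPrime _

lemma constantCoeff_br (i : Fin 2) (r : MvPowerSeries (Fin 2) B) :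
    PowerSeries.constantCoeff (br hπ i (Ideal.Quotient.mk _ r)) = residue B (MvPowerSeries.constantCoeff r) := by
  show MvPowerSeries.coeff 0 (MvPowerSeries.map (residue B) (killCompl (R := B) (emb i) r)) = _
  rw [MvPowerSeries.coeff_map, coeff_killCompl, Finsupp.embDomain_zero]
  rfl

lemma isLocalRing : IsLocalRing N :=
  haveI : Nontrivial N := (br hπ 0).domain_nontrivial
  IsLocalRing.of_surjective' (Ideal.Quotient.mk _) Ideal.Quotient.mk_surjective

lemma isUnit_iff (i : Fin 2) (x : ArLef.NodeAlg B π) :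
    IsUnit x ↔ PowerSeries.constantCoeff (br hπ i x) ≠ 0 := by
  obtain ⟨r, rfl⟩ := Ideal.Quotient.mk_surjective x
  refine ⟨fun h => ((h.map (br hπ i)).map PowerSeries.constantCoeff).ne_zero, fun h => ?_⟩
  rw [constantCoeff_br, residue_ne_zero_iff_isUnit] at h
  exact (MvPowerSeries.isUnit_iff_constantCoeff.2 h).map _

lemma not_isUnit_var (i : Fin 2) : ¬ IsUnit (var π i) := by
  rw [isUnit_iff hπ i, br_self, map_zero]; simp

lemma maximalIdeal_eq [IsLocalRing (ArLef.NodeAlg B π)] :
    maximalIdeal N = Ideal.span ({ArLef.NodeAlg.t π, ArLef.NodeAlg.e π} : Set (ArLef.NodeAlg B π)) := by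
  refine le_antisymm (fun x hx => ?_) (Ideal.span_le.2 ?_)
  · rw [mem_maximalIdeal, mem_nonunits_iff, isUnit_iff hπ 0, not_not] at hx
    obtain ⟨s, hs⟩ := PowerSeries.X_dvd_iff.2 hx
    obtain ⟨s', rfl⟩ := br_surjective hπ 0 s
    obtain ⟨c, hc⟩ : var π 0 ∣ x - var π (oth 0) * s' := by
      rw [← br_eq_zero_iff hπ, map_sub, map_mul, br_oth, hs, sub_self]
    rw [Ideal.mem_span_pair]
    refine ⟨c, s', ?_⟩
    rw [mul_comm c, mul_comm s']
    show var π 0 * c + var π (oth 0) * s' = x
    rw [← hc, sub_add_cancel]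
  · rintro y (rfl | rfl)
    · exact not_isUnit_var hπ 0
    · exact not_isUnit_var hπ 1

lemma var_mem_maximalIdeal [IsLocalRing (ArLef.NodeAlg B π)] (i : Fin 2) : var π i ∈ maximalIdeal N :=
  not_isUnit_var hπ i

lemma exists_decomp (r : ArLef.NodeAlg B π) :
    ∃ (b : B) (c : Fin 2 → ArLef.NodeAlg B π), r = algebraMap B N b + ∑ i, var π i * c i := by
  haveI := isLocalRing hπ
  obtain ⟨b, hb⟩ := residue_surjective (R := B) (PowerSeries.constantCoeff (br hπ 0 r))
  have h : r - algebraMap B N b ∈ maximalIdeal N := by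
    rw [mem_maximalIdeal, mem_nonunits_iff, isUnit_iff hπ 0, not_not, map_sub, br_algebraMap, map_sub,
      PowerSeries.constantCoeff_C, hb, sub_self]
  rw [maximalIdeal_eq hπ, Ideal.mem_span_pair] at h
  obtain ⟨c, d, hcd⟩ := h
  refine ⟨b, ![c, d], ?_⟩
  simp only [Fin.sum_univ_two, Matrix.cons_val_zero, Matrix.cons_val_one]
  rw [var_zero, var_one]
  linear_combination -hcd

lemma regular_mod_var (i : Fin 2) {x : ArLef.NodeAlg B π} (hx : ¬ var π i ∣ x) :
    IsSMulRegular (N ⧸ Ideal.span ({var π i} : Set (ArLef.NodeAlg B π))) x := by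
  intro a b h
  obtain ⟨a, rfl⟩ := Ideal.Quotient.mk_surjective a
  obtain ⟨b, rfl⟩ := Ideal.Quotient.mk_surjective b
  change Ideal.Quotient.mk (Ideal.span {var π i}) (x * a) = Ideal.Quotient.mk (Ideal.span {var π i}) (x * b) at h
  rw [Ideal.Quotient.eq, ← mul_sub] at h
  rw [Ideal.Quotient.eq]
  exact ((span_var_isPrime hπ i).mem_or_mem h).resolve_left (by rwa [Ideal.mem_span_singleton])

lemma not_dvd_oth (i : Fin 2) : ¬ var π i ∣ var π (oth i) := by
  rw [← br_eq_zero_iff hπ, br_oth]
  exact PowerSeries.X_ne_zero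

lemma br_sq (i : Fin 2) {x : ArLef.NodeAlg B π}
    (hx : x ∈ (Ideal.span ({ArLef.NodeAlg.t π, ArLef.NodeAlg.e π} : Set (ArLef.NodeAlg B π))) ^ 2) :
    PowerSeries.X ^ 2 ∣ br hπ i x := by
  have hm : ∀ y ∈ Ideal.span ({ArLef.NodeAlg.t π, ArLef.NodeAlg.e π} : Set (ArLef.NodeAlg B π)),
      PowerSeries.X ∣ br hπ i y := by
    intro y hy
    haveI := isLocalRing hπ
    rw [PowerSeries.X_dvd_iff]
    by_contra h0
    rw [← maximalIdeal_eq hπ] at hy
    exact hy ((isUnit_iff hπ i y).2 h0)
  rw [pow_two] at hx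
  refine Submodule.mul_induction_on hx (fun a ha b hb => ?_) (fun a b ha hb => ?_)
  · rw [map_mul, pow_two]; exact mul_dvd_mul (hm a ha) (hm b hb)
  · rw [map_add]; exact dvd_add ha hb

lemma eq_zero_of_var_mul [IsDomain B] (hπ0 : π ≠ 0) (i : Fin 2) {y : ArLef.NodeAlg B π}
    (h : var π i * y = 0) : y = 0 := by
  obtain ⟨Y, rfl⟩ := Ideal.Quotient.mk_surjective y
  rw [← map_mul, Ideal.Quotient.eq_zero_iff_mem, Ideal.mem_span_singleton'] at h
  obtain ⟨q, hq⟩ := h
  let ψ := killCompl (R := B) (emb i)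
  have h1 : ψ (MvPowerSeries.X i) = 0 := killCompl_X_eq_zero (fun ⟨_, h⟩ => oth_ne i h)
  have h2 := congrArg ψ hq
  rw [map_mul, map_mul, map_sub, map_mul, killCompl_C, h1, zero_mul] at h2
  have h3 : ψ q = 0 := by
    refine (mul_eq_zero.1 h2).resolve_right ?_
    have h4 : ψ (MvPowerSeries.X 0) * ψ (MvPowerSeries.X 1) = 0 := by
      fin_cases i
      · exact mul_eq_zero_of_left h1 _
      · exact mul_eq_zero_of_right _ h1
    rw [h4, zero_sub, neg_eq_zero]
    intro h5
    exact hπ0 (MvPowerSeries.C_injective (σ := Unit) (h5.trans (map_zero _).symm))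
  obtain ⟨q', rfl⟩ : MvPowerSeries.X i ∣ q := by
    rw [MvPowerSeries.X_dvd_iff]
    intro d hd
    have := congrArg (MvPowerSeries.coeff (Finsupp.single () (d (oth i)))) h3
    rw [coeff_killCompl, Finsupp.embDomain_single] at this
    have hd' : Finsupp.single (emb i ()) (d (oth i)) = d := by
      ext j
      show Finsupp.single (oth i) (d (oth i)) j = d j
      rcases eq_or_ne j i with rfl | hji
      · rw [Finsupp.single_apply, if_neg (oth_ne j), hd]
      · rw [eq_oth hji, Finsupp.single_eq_same]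
    rw [hd'] at this
    exact this.trans (map_zero _)
  have hXne : (MvPowerSeries.X i : MvPowerSeries (Fin 2) B) ≠ 0 := by
    intro h0
    have := congrArg (MvPowerSeries.coeff (Finsupp.single i 1)) h0
    simp at this
  rw [mul_assoc] at hq
  rw [Ideal.Quotient.eq_zero_iff_mem, Ideal.mem_span_singleton']
  exact ⟨q', mul_left_cancel₀ hXne hq⟩

lemma isDomain [IsDomain B] (hπ0 : π ≠ 0) : IsDomain N := by
  haveI := isLocalRing hπ
  haveI := span_var_isPrime hπ 0
  obtain ⟨P, hP, hPle⟩ := Ideal.exists_minimalPrimes_le (I := (⊥ : Ideal N))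
    (J := Ideal.span {var π 0}) bot_le
  haveI := hP.1.1
  have ht : var π 0 ∉ P := fun hmem =>
    Set.disjoint_left.1 (Ideal.disjoint_nonZeroDivisors_of_mem_minimalPrimes hP) hmem
      (mem_nonZeroDivisors_iff_right.2 fun y hy => eq_zero_of_var_mul hπ hπ0 0 (by rw [mul_comm]; exact hy))
  have hle : P ≤ maximalIdeal N • P := by
    intro x hx
    obtain ⟨y, rfl⟩ := Ideal.mem_span_singleton.1 (hPle hx)
    exact Submodule.smul_mem_smul (var_mem_maximalIdeal hπ 0) ((hP.1.1.mem_or_mem hx).resolve_left ht)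
  have hbot : P = ⊥ := Submodule.eq_bot_of_le_smul_of_le_jacobson_bot _ _ (IsNoetherian.noetherian P) hle
    (IsLocalRing.maximalIdeal_le_jacobson _)
  haveI : (⊥ : Ideal N).IsPrime := hbot ▸ hP.1.1
  exact (Ideal.Quotient.isDomain_iff_prime (⊥ : Ideal N)).2 inferInstance |> fun h =>
    (RingEquiv.quotientBot N).symm.injective.isDomain (RingEquiv.quotientBot N).symm.toRingHom

lemma ql_maximal : ql (Ideal.span ({ArLef.NodeAlg.t π, ArLef.NodeAlg.e π} : Set (ArLef.NodeAlg B π))) = 1 := by
  haveI := isLocalRing hπ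
  rw [← maximalIdeal_eq hπ]
  exact ql_eq_one _

lemma fixIdeal_eq {F : Type*} [EquivLike F (ArLef.NodeAlg B π) (ArLef.NodeAlg B π)]
    [RingEquivClass F (ArLef.NodeAlg B π) (ArLef.NodeAlg B π)] (σ : F) :
    ArLef.fixIdeal σ = Ideal.span (Set.range fun b : B => σ (algebraMap B N b) - algebraMap B N b) ⊔
      Ideal.span ({σ (ArLef.NodeAlg.t π) - ArLef.NodeAlg.t π, σ (ArLef.NodeAlg.e π) - ArLef.NodeAlg.e π} :
        Set (ArLef.NodeAlg B π)) := by
  refine le_antisymm (Ideal.span_le.2 ?_) (sup_le (Ideal.span_le.2 ?_) (Ideal.span_le.2 ?_))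
  · rintro _ ⟨r, rfl⟩
    haveI := isLocalRing hπ
    refine sub_mem_of_gen (var π) (var_mem_maximalIdeal hπ) (exists_decomp hπ) (RingEquivClass.toRingEquiv σ).toRingHom
      (RingHom.id N) (fun i => ?_) _ (fun b => ?_) (fun i => ?_) r
    · rw [mem_maximalIdeal, mem_nonunits_iff]
      exact fun h => not_isUnit_var hπ i (by simpa using h.map (RingEquivClass.toRingEquiv σ).symm)
    · exact Submodule.mem_sup_left (Ideal.subset_span ⟨b, rfl⟩)
    · fin_cases i
      · exact Submodule.mem_sup_right (Ideal.subset_span (Or.inl rfl))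
      · exact Submodule.mem_sup_right (Ideal.subset_span (Or.inr rfl))
  · rintro _ ⟨b, rfl⟩
    exact Ideal.subset_span ⟨_, rfl⟩
  · rintro _ (rfl | rfl) <;> exact Ideal.subset_span ⟨_, rfl⟩

omit hπ

/-- The maximal ideal in the field case. -/
lemma max_of_field (K : Type u) [Field K] : maximalIdeal K = Ideal.span {0} := by
  simp [IsLocalRing.maximalIdeal_eq_bot]

end Groth.Agent.NodeH28
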