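import Groth.Agent.Lib.NodeH28.Basic
import Mathlib.Tactic.LinearCombination

/-!
# Residual lengths at a double point
-/

open IsLocalRing

universe u

namespace Groth.Agent.NodeH28

set_option linter.unusedSectionVars false

variable {B : Type u} [CommRing B] [IsLocalRing B] [IsNoetherianRing B] [IsDomain B] {π : B}
  (hπ : maximalIdeal B = Ideal.span {π}) (hπ0 : π ≠ 0)

local notation "N" => ArLef.NodeAlg B π
local notation "T" => ArLef.NodeAlg.t π
local notation "E" => ArLef.NodeAlg.e π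

include hπ hπ0

lemma var_ne_zero (i : Fin 2) : var π i ≠ 0 := by
  intro h0
  have := not_dvd_oth hπ (oth i)
  rw [oth_oth, h0] at this
  exact this (dvd_zero _)

lemma regular_var_mod (i : Fin 2) {a : ArLef.NodeAlg B π} (ha : ¬ var π i ∣ a) :
    IsSMulRegular (N ⧸ Ideal.span ({a} : Set (ArLef.NodeAlg B π))) (var π i) := by
  haveI := isDomain hπ hπ0
  intro x y h
  obtain ⟨x, rfl⟩ := Ideal.Quotient.mk_surjective x
  obtain ⟨y, rfl⟩ := Ideal.Quotient.mk_surjective y
  change Ideal.Quotient.mk (Ideal.span {a}) (var π i * x) = Ideal.Quotient.mk (Ideal.span {a}) (var π i * y) at h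
  rw [Ideal.Quotient.eq, Ideal.mem_span_singleton'] at h
  obtain ⟨z, hz⟩ := h
  have hP : var π i ∣ z := by
    have h1 : z * a ∈ Ideal.span {var π i} := Ideal.mem_span_singleton.2 ⟨x - y, by rw [hz, mul_sub]⟩
    rcases (span_var_isPrime hπ i).mem_or_mem h1 with h2 | h2
    · exact Ideal.mem_span_singleton.1 h2
    · exact absurd (Ideal.mem_span_singleton.1 h2) ha
  obtain ⟨z', rfl⟩ := hP
  rw [Ideal.Quotient.eq, Ideal.mem_span_singleton']
  refine ⟨z', mul_left_cancel₀ (var_ne_zero hπ hπ0 i) ?_⟩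
  linear_combination hz

lemma ql_pow_mul {a : ArLef.NodeAlg B π} (he : ¬ E ∣ a) (q m : ℕ) (ht : m = 0 ∨ ¬ T ∣ a) :
    ql (Ideal.span ({T ^ m * E ^ q, a} : Set (ArLef.NodeAlg B π))) =
      m * ql (Ideal.span ({ArLef.NodeAlg.t π, a} : Set (ArLef.NodeAlg B π))) +
        q * ql (Ideal.span ({ArLef.NodeAlg.e π, a} : Set (ArLef.NodeAlg B π))) := by
  induction m with
  | zero => rw [pow_zero, one_mul, Nat.cast_zero, zero_mul, zero_add, ql_pow _ _ (regular_var_mod hπ hπ0 1 he)]
  | succ m ih =>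
    have ht' : ¬ T ∣ a := ht.resolve_left (Nat.succ_ne_zero m)
    have h := ql_mul_sup T a (Ideal.span {T ^ m * E ^ q}) (regular_var_mod hπ hπ0 0 ht')
    rw [Ideal.span_singleton_mul_span_singleton, ← mul_assoc, ← pow_succ', ← Ideal.span_insert,
      ← Ideal.span_insert] at h
    rw [h, ih (Or.inr ht'), Nat.cast_succ, add_mul, one_mul]
    ring

lemma ql_t_be {b : ArLef.NodeAlg B π} :
    ql (Ideal.span ({E * b} : Set (ArLef.NodeAlg B π)) ⊔ Ideal.span {ArLef.NodeAlg.t π}) =
      1 + ql (Ideal.span ({ArLef.NodeAlg.t π, b} : Set (ArLef.NodeAlg B π))) := by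
  have hreg : IsSMulRegular (N ⧸ Ideal.span ({ArLef.NodeAlg.t π} : Set (ArLef.NodeAlg B π))) E :=
    regular_mod_var hπ 0 (not_dvd_oth hπ 0)
  have h := ql_mul_sup E T (Ideal.span {b}) hreg
  rw [Ideal.span_singleton_mul_span_singleton] at h
  rw [h, Ideal.span_pair_comm, ql_maximal hπ, ← Ideal.span_insert, Ideal.span_pair_comm]

/-- The residual length when both branches have small multiplicity. -/
theorem ql_key {p q : ℕ} (hp : 1 ≤ p) (hq : 1 ≤ q) {a b G v : ArLef.NodeAlg B π} (hv : IsUnit v)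
    (hrel : a + v * b = G * (T ^ (p - 1) * E ^ (q - 1))) (hea : ¬ E ∣ a) (htb : ¬ T ∣ b) :
    ql (Ideal.span ({T ^ p * E ^ q, a * T, b * E} : Set (ArLef.NodeAlg B π))) =
      1 + p * ql (Ideal.span ({ArLef.NodeAlg.t π, b} : Set (ArLef.NodeAlg B π))) +
        q * ql (Ideal.span ({ArLef.NodeAlg.e π, a} : Set (ArLef.NodeAlg B π))) := by
  haveI := isDomain hπ hπ0
  obtain ⟨p, rfl⟩ : ∃ p', p = p' + 1 := ⟨p - 1, by omega⟩
  obtain ⟨q, rfl⟩ : ∃ q', q = q' + 1 := ⟨q - 1, by omega⟩
  simp only [Nat.add_sub_cancel] at hrel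
  set K := Ideal.span ({T ^ (p + 1) * E ^ (q + 1), a * T, b * E} : Set (ArLef.NodeAlg B π))
  set L := Ideal.span ({T ^ p * E ^ (q + 1), a} : Set (ArLef.NodeAlg B π))
  have hbL : b * E ∈ L := by
    refine (Submodule.smul_mem_iff_of_isUnit _ hv).1 ?_
    rw [smul_eq_mul]
    exact Ideal.mem_span_pair.2 ⟨G, -E, by linear_combination -E * hrel⟩
  have hcolon : ∀ y, T * y ∈ K ↔ y ∈ L := by
    intro y
    constructor
    · intro hy
      obtain ⟨x, z, hz, hxy⟩ := Ideal.mem_span_insert.1 hy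
      obtain ⟨c, d, hcd⟩ := Ideal.mem_span_pair.1 hz
      have hd : d * (b * E) ∈ Ideal.span {var π 0} := by
        rw [Ideal.mem_span_singleton]
        refine ⟨y - x * (T ^ p * E ^ (q + 1)) - c * a, ?_⟩
        rw [var_zero]
        linear_combination -hxy + hcd
      have hd' : T ∣ d := by
        have h1 := (span_var_isPrime hπ 0).mem_or_mem hd
        rcases h1 with h2 | h2
        · exact Ideal.mem_span_singleton.1 h2
        · rcases (span_var_isPrime hπ 0).mem_or_mem h2 with h3 | h3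
          · exact absurd (Ideal.mem_span_singleton.1 h3) htb
          · exact absurd (Ideal.mem_span_singleton.1 h3) (not_dvd_oth hπ 0)
      obtain ⟨d', rfl⟩ := hd'
      have ey : y = x * (T ^ p * E ^ (q + 1)) + c * a + d' * (b * E) :=
        mul_left_cancel₀ (var_ne_zero hπ hπ0 0) (by rw [var_zero]; linear_combination hxy - hcd)
      rw [ey]
      exact add_mem (Ideal.mem_span_pair.2 ⟨x, c, rfl⟩) (Ideal.mul_mem_left _ _ hbL)
    · intro hy
      obtain ⟨x, c, rfl⟩ := Ideal.mem_span_pair.1 hy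
      rw [show T * (x * (T ^ p * E ^ (q + 1)) + c * a) = x * (T ^ (p + 1) * E ^ (q + 1)) + c * (a * T) by ring]
      exact add_mem (Ideal.mul_mem_left _ _ (Ideal.subset_span (by simp)))
        (Ideal.mul_mem_left _ _ (Ideal.subset_span (by simp)))
  have hsup : K ⊔ Ideal.span {T} = Ideal.span ({E * b} : Set (ArLef.NodeAlg B π)) ⊔ Ideal.span {ArLef.NodeAlg.t π} := by
    refine le_antisymm (sup_le (Ideal.span_le.2 ?_) le_sup_right) (sup_le (Ideal.span_le.2 ?_) le_sup_right)
    · rintro _ (rfl | rfl | rfl)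
      · exact Submodule.mem_sup_right (Ideal.mem_span_singleton'.2 ⟨T ^ p * E ^ (q + 1), by ring⟩)
      · exact Submodule.mem_sup_right (Ideal.mem_span_singleton'.2 ⟨a, rfl⟩)
      · exact Submodule.mem_sup_left (Ideal.mem_span_singleton'.2 ⟨1, by ring⟩)
    · rintro _ rfl
      refine Submodule.mem_sup_left (Ideal.subset_span (Or.inr (Or.inr ?_)))
      exact mul_comm E b
  have hta : p = 0 ∨ ¬ T ∣ a := by
    rcases Nat.eq_zero_or_pos p with hp0 | hp0
    · exact Or.inl hp0
    refine Or.inr fun h => htb ?_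
    have h1 : T ∣ v * b := by
      have h2 : T ∣ G * (T ^ p * E ^ q) := ((dvd_pow_self T hp0.ne').mul_right _).mul_left _
      rwa [← hrel, dvd_add_right h] at h2
    exact (hv.dvd_mul_left).1 h1
  have hsame : p = 0 ∨ Ideal.span ({ArLef.NodeAlg.t π, a} : Set (ArLef.NodeAlg B π)) =
      Ideal.span ({ArLef.NodeAlg.t π, b} : Set (ArLef.NodeAlg B π)) := by
    rcases Nat.eq_zero_or_pos p with hp0 | hp0
    · exact Or.inl hp0
    obtain ⟨r, rfl⟩ : ∃ r, p = r + 1 := ⟨p - 1, by omega⟩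
    refine Or.inr (le_antisymm (Ideal.span_le.2 ?_) (Ideal.span_le.2 ?_))
    · rintro _ (rfl | rfl)
      · exact Ideal.subset_span (Or.inl rfl)
      · exact Ideal.mem_span_pair.2 ⟨G * (T ^ r * E ^ q), -v, by linear_combination -hrel⟩
    · rintro _ (rfl | rfl)
      · exact Ideal.subset_span (Or.inl rfl)
      · refine (Submodule.smul_mem_iff_of_isUnit _ hv).1 ?_
        rw [smul_eq_mul]
        exact Ideal.mem_span_pair.2 ⟨G * (T ^ r * E ^ q), -1, by linear_combination -hrel⟩
  rw [ql_colon K L T hcolon, hsup, ql_t_be hπ hπ0, ql_pow_mul hπ hπ0 hea (q + 1) p hta]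
  rcases hsame with hp0 | hp0
  · subst hp0
    push_cast
    ring
  · rw [hp0]
    push_cast
    ring

/-- The residual length when the second branch has maximal multiplicity. -/
theorem ql_key' {p : ℕ} (hp : 1 ≤ p) {a b G v : ArLef.NodeAlg B π} (hv : IsUnit v)
    (hrel : E * a + v * b = G * T ^ (p - 1)) (htb : ¬ T ∣ b) :
    ql (Ideal.span ({T ^ p, a * T, b} : Set (ArLef.NodeAlg B π))) + ((p - 1 : ℕ) : ℕ∞) =
      p * ql (Ideal.span ({ArLef.NodeAlg.t π, b} : Set (ArLef.NodeAlg B π))) := by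
  haveI := isDomain hπ hπ0
  obtain ⟨p, rfl⟩ : ∃ p', p = p' + 1 := ⟨p - 1, by omega⟩
  simp only [Nat.add_sub_cancel] at hrel ⊢
  set K := Ideal.span ({T ^ (p + 1), a * T, b} : Set (ArLef.NodeAlg B π))
  set L := Ideal.span ({T ^ p, a} : Set (ArLef.NodeAlg B π))
  have hbL : b ∈ L := by
    refine (Submodule.smul_mem_iff_of_isUnit _ hv).1 ?_
    rw [smul_eq_mul]
    exact Ideal.mem_span_pair.2 ⟨G, -E, by linear_combination -hrel⟩
  have hcolon : ∀ y, T * y ∈ K ↔ y ∈ L := by
    intro y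
    constructor
    · intro hy
      obtain ⟨x, z, hz, hxy⟩ := Ideal.mem_span_insert.1 hy
      obtain ⟨c, d, hcd⟩ := Ideal.mem_span_pair.1 hz
      have hd : d * b ∈ Ideal.span {var π 0} := by
        rw [Ideal.mem_span_singleton]
        refine ⟨y - x * T ^ p - c * a, ?_⟩
        rw [var_zero]
        linear_combination -hxy + hcd
      obtain ⟨d', rfl⟩ : T ∣ d := by
        rcases (span_var_isPrime hπ 0).mem_or_mem hd with h2 | h2
        · exact Ideal.mem_span_singleton.1 h2
        · exact absurd (Ideal.mem_span_singleton.1 h2) htb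
      have ey : y = x * T ^ p + c * a + d' * b :=
        mul_left_cancel₀ (var_ne_zero hπ hπ0 0) (by rw [var_zero]; linear_combination hxy - hcd)
      rw [ey]
      exact add_mem (Ideal.mem_span_pair.2 ⟨x, c, rfl⟩) (Ideal.mul_mem_left _ _ hbL)
    · intro hy
      obtain ⟨x, c, rfl⟩ := Ideal.mem_span_pair.1 hy
      rw [show T * (x * T ^ p + c * a) = x * T ^ (p + 1) + c * (a * T) by ring]
      exact add_mem (Ideal.mul_mem_left _ _ (Ideal.subset_span (by simp)))
        (Ideal.mul_mem_left _ _ (Ideal.subset_span (by simp)))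
  have hsup : K ⊔ Ideal.span {T} = Ideal.span ({ArLef.NodeAlg.t π, b} : Set (ArLef.NodeAlg B π)) := by
    refine le_antisymm (sup_le (Ideal.span_le.2 ?_) (Ideal.span_mono (by simp))) (Ideal.span_le.2 ?_)
    · rintro _ (rfl | rfl | rfl)
      · exact Ideal.mem_span_pair.2 ⟨T ^ p, 0, by ring⟩
      · exact Ideal.mem_span_pair.2 ⟨a, 0, by ring⟩
      · exact Ideal.subset_span (Or.inr rfl)
    · rintro _ (rfl | rfl)
      · exact Submodule.mem_sup_right (Ideal.mem_span_singleton_self _)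
      · exact Submodule.mem_sup_left (Ideal.subset_span (by simp))
  rw [ql_colon K L T hcolon, hsup]
  rcases Nat.eq_zero_or_pos p with rfl | hp0
  · rw [show L = ⊤ from (Ideal.eq_top_iff_one _).2 (Ideal.subset_span (by simp)), ql_top]
    simp
  obtain ⟨r, rfl⟩ : ∃ r, p = r + 1 := ⟨p - 1, by omega⟩
  have hta : ¬ T ∣ a := fun h => htb <| by
    have h1 : T ∣ v * b := by
      have h2 : T ∣ G * T ^ (r + 1) := (dvd_pow_self T r.succ_ne_zero).mul_left _
      rwa [← hrel, dvd_add_right (h.mul_left _)] at h2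
    exact hv.dvd_mul_left.1 h1
  have hspan : Ideal.span ({ArLef.NodeAlg.t π, b} : Set (ArLef.NodeAlg B π)) =
      Ideal.span ({E * a} : Set (ArLef.NodeAlg B π)) ⊔ Ideal.span {ArLef.NodeAlg.t π} := by
    rw [← Ideal.span_insert, Ideal.span_pair_comm (x := E * a)]
    refine le_antisymm (Ideal.span_le.2 ?_) (Ideal.span_le.2 ?_)
    · rintro _ (rfl | rfl)
      · exact Ideal.subset_span (Or.inl rfl)
      · refine (Submodule.smul_mem_iff_of_isUnit _ hv).1 ?_
        rw [smul_eq_mul]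
        exact Ideal.mem_span_pair.2 ⟨G * T ^ r, -1, by linear_combination -hrel⟩
    · rintro _ (rfl | rfl)
      · exact Ideal.subset_span (Or.inl rfl)
      · exact Ideal.mem_span_pair.2 ⟨G * T ^ r, -v, by linear_combination -hrel⟩
  have h1 := ql_pow T a (regular_var_mod hπ hπ0 0 hta) (r + 1)
  rw [h1, hspan, ql_t_be hπ hπ0]
  push_cast
  ring

end Groth.Agent.NodeH28
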