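import Groth.Agent.Lib.NodeH28.Calc

/-!
# Fixed ideals of automorphisms stabilising the branches
-/

open IsLocalRing

universe u

namespace Groth.Agent.NodeH28

set_option linter.unusedSectionVars false

variable {B : Type u} [CommRing B] [IsLocalRing B] [IsNoetherianRing B] [IsDomain B] {π : B}
  (hπ : maximalIdeal B = Ideal.span {π}) (hπ0 : π ≠ 0)

local notation "N" => ArLef.NodeAlg B π
local notation "T" => ArLef.NodeAlg.t π
local notation "E" => ArLef.NodeAlg.e π

include hπ hπ0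

lemma pi_image_ne_zero : algebraMap B N π ≠ 0 := by
  haveI := isDomain hπ hπ0
  rw [← var_mul_oth 0]
  exact mul_ne_zero (var_ne_zero hπ hπ0 _) (var_ne_zero hπ hπ0 _)

lemma alpha_beta {j : ℕ} (hj : 1 ≤ j) {γ : B} (σ : N ≃+* N)
    (hσπ : σ (algebraMap B N π) = algebraMap B N (π + γ * π ^ j)) {α β : (ArLef.NodeAlg B π)}
    (ht : σ T = α * T) (he : σ E = β * E) :
    α * β = 1 + algebraMap B N γ * (T ^ (j - 1) * E ^ (j - 1)) := by
  haveI := isDomain hπ hπ0
  obtain ⟨n, rfl⟩ : ∃ n, j = n + 1 := ⟨j - 1, by omega⟩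
  have hte : T * E = algebraMap B N π := var_mul_oth 0
  have h3 : σ T * σ E = algebraMap B N π + algebraMap B N γ * algebraMap B N π ^ (n + 1) := by
    rw [← map_mul, hte, hσπ, map_add, map_mul, map_pow]
  rw [ht, he, ← hte] at h3
  refine mul_right_cancel₀ (pi_image_ne_zero hπ hπ0) ?_
  rw [← hte, Nat.add_sub_cancel]
  linear_combination h3

lemma fixIdeal_branches {j : ℕ} {γ : B} (hγ : IsUnit γ) (σ : N ≃+* N)
    (hσB : ∀ b : B, σ (algebraMap B N b) - algebraMap B N b ∈
      Ideal.span ({algebraMap B N (π ^ j)} : Set (ArLef.NodeAlg B π)))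
    (hσπ : σ (algebraMap B N π) = algebraMap B N (π + γ * π ^ j)) {α β : (ArLef.NodeAlg B π)}
    (ht : σ T = α * T) (he : σ E = β * E) :
    ArLef.fixIdeal σ = Ideal.span ({T ^ j * E ^ j, (α - 1) * T, (β - 1) * E} : Set (ArLef.NodeAlg B π)) := by
  have hte : T * E = algebraMap B N π := var_mul_oth 0
  have hpj : algebraMap B N (π ^ j) = T ^ j * E ^ j := by rw [map_pow, ← hte, mul_pow]
  rw [hpj] at hσB
  refine le_antisymm ?_ (Ideal.span_le.2 ?_)
  · rw [fixIdeal_eq hπ σ]
    refine sup_le (Ideal.span_le.2 ?_) (Ideal.span_le.2 ?_)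
    · rintro _ ⟨b, rfl⟩
      exact Ideal.span_mono (by simp) (hσB b)
    · rintro _ (rfl | rfl)
      · rw [ht]; exact Ideal.subset_span (Or.inr (Or.inl (by ring)))
      · rw [he]; exact Ideal.subset_span (Or.inr (Or.inr (show _ = (β - 1) * E by ring)))
  · rintro _ (rfl | rfl | rfl)
    · refine (Submodule.smul_mem_iff_of_isUnit _ (hγ.map (algebraMap B N))).1 ?_
      rw [smul_eq_mul]
      refine Ideal.subset_span ⟨algebraMap B N π, ?_⟩
      show σ _ - _ = _
      rw [hσπ, map_add, map_mul, hpj]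
      ring
    · exact Ideal.subset_span ⟨T, show σ T - T = _ by rw [ht]; ring⟩
    · exact Ideal.subset_span ⟨E, show σ E - E = _ by rw [he]; ring⟩

lemma colon_mul_span {g : ArLef.NodeAlg B π} (hg : g ≠ 0) (x y z : ArLef.NodeAlg B π) :
    (Ideal.span ({g * x, g * y, g * z} : Set (ArLef.NodeAlg B π))).colon ({g} : Set (ArLef.NodeAlg B π)) =
      Ideal.span ({x, y, z} : Set (ArLef.NodeAlg B π)) := by
  haveI := isDomain hπ hπ0
  have e : Ideal.span ({g * x, g * y, g * z} : Set (ArLef.NodeAlg B π)) = Ideal.span {g} * Ideal.span {x, y, z} := by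
    rw [Ideal.span_mul_span', Set.singleton_mul, Set.image_insert_eq, Set.image_insert_eq, Set.image_singleton]
  ext w
  rw [e, Submodule.mem_colon_singleton, smul_eq_mul, Ideal.mem_span_singleton_mul]
  constructor
  · rintro ⟨v, hv, hvw⟩
    rw [mul_comm w g] at hvw
    rwa [← mul_left_cancel₀ hg hvw]
  · exact fun hw => ⟨w, hw, mul_comm _ _⟩

end Groth.Agent.NodeH28
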