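import Groth.Prelude.Def_W4c2arithlefschetzNode
import Groth.Agent.Lib.NodeH28.Len
import Mathlib.RingTheory.PowerSeries.Inverse
import Mathlib.RingTheory.PowerSeries.Ideal
import Mathlib.RingTheory.PowerSeries.NoZeroDivisors
import Mathlib.RingTheory.DiscreteValuationRing.Basic
import Mathlib.RingTheory.LocalRing.ResidueField.Basic
import Mathlib.Tactic.LinearCombination

/-!
# Smooth points: `B[[t]]`
-/

open IsLocalRing

universe u

namespace Groth.Agent.NodeH28

set_option linter.unusedSectionVars false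

variable {B : Type u} [CommRing B] [IsLocalRing B] [IsNoetherianRing B] [IsDomain B] {π : B}
  (hπ : maximalIdeal B = Ideal.span {π})

include hπ

lemma psFixIdeal {j : ℕ} {γ : B} (hγ : IsUnit γ) (σ : PowerSeries B ≃+* PowerSeries B)
    (hσB : ∀ b : B, σ (algebraMap B (PowerSeries B) b) - algebraMap B (PowerSeries B) b ∈
      Ideal.span ({algebraMap B (PowerSeries B) (π ^ j)} : Set (PowerSeries B)))
    (hσπ : σ (algebraMap B (PowerSeries B) π) = algebraMap B (PowerSeries B) (π + γ * π ^ j)) :
    ArLef.fixIdeal σ = Ideal.span ({PowerSeries.C π ^ j, σ PowerSeries.X - PowerSeries.X} : Set (PowerSeries B)) := by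
  have hpj : algebraMap B (PowerSeries B) (π ^ j) = PowerSeries.C π ^ j := map_pow _ _ _
  rw [hpj] at hσB
  refine le_antisymm (Ideal.span_le.2 ?_) (Ideal.span_le.2 ?_)
  · rintro _ ⟨r, rfl⟩
    have hX : (PowerSeries.X : PowerSeries B) ∈ maximalIdeal (PowerSeries B) := by
      rw [mem_maximalIdeal, mem_nonunits_iff, PowerSeries.isUnit_iff_constantCoeff]
      simp
    refine sub_mem_of_gen (B := B) (fun _ : Unit => (PowerSeries.X : PowerSeries B)) (fun _ => hX) (fun r => ?_)
      σ.toRingHom (RingHom.id _) (fun _ => ?_) _ (fun b => ?_) (fun _ => ?_) r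
    · obtain ⟨c, hc⟩ : PowerSeries.X ∣ r - PowerSeries.C (PowerSeries.constantCoeff r) :=
        PowerSeries.X_dvd_iff.2 (by simp)
      refine ⟨PowerSeries.constantCoeff r, fun _ => c, ?_⟩
      rw [Fintype.sum_unique, show algebraMap B (PowerSeries B) (PowerSeries.constantCoeff r) =
        PowerSeries.C (PowerSeries.constantCoeff r) from rfl, ← hc]
      ring
    · rw [mem_maximalIdeal, mem_nonunits_iff]
      exact fun h => hX (by simpa using h.map σ.symm)
    · exact Ideal.span_mono (by simp) (hσB b)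
    · exact Ideal.subset_span (Or.inr rfl)
  · rintro _ (rfl | rfl)
    · refine (Submodule.smul_mem_iff_of_isUnit _ (hγ.map (algebraMap B (PowerSeries B)))).1 ?_
      rw [smul_eq_mul]
      refine Ideal.subset_span ⟨algebraMap B (PowerSeries B) π, ?_⟩
      show σ _ - _ = _
      rw [hσπ, map_add, map_mul, hpj]
      ring
    · exact Ideal.subset_span ⟨PowerSeries.X, rfl⟩

lemma map_residue_eq_zero_iff (r : PowerSeries B) :
    PowerSeries.map (residue B) r = 0 ↔ PowerSeries.C π ∣ r := by
  constructor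
  · intro h
    have h1 : ∀ n, ∃ c, PowerSeries.coeff n r = π * c := fun n => by
      have h2 := congrArg (PowerSeries.coeff n) h
      rw [PowerSeries.coeff_map, map_zero, residue_eq_zero_iff, hπ, Ideal.mem_span_singleton] at h2
      exact h2
    choose c hc using h1
    exact ⟨PowerSeries.mk c, PowerSeries.ext fun n => by rw [PowerSeries.coeff_C_mul, PowerSeries.coeff_mk, hc]⟩
  · rintro ⟨c, rfl⟩
    rw [map_mul, PowerSeries.map_C, (residue_eq_zero_iff π).2 (hπ ▸ Ideal.mem_span_singleton_self π), map_zero,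
      zero_mul]

lemma regular_C_mod (hπ0 : π ≠ 0) {f : PowerSeries B} (hf : ¬ (algebraMap B (PowerSeries B) π ∣ f)) :
    IsSMulRegular (PowerSeries B ⧸ Ideal.span ({f} : Set (PowerSeries B))) (PowerSeries.C π) := by
  intro x y h
  obtain ⟨x, rfl⟩ := Ideal.Quotient.mk_surjective x
  obtain ⟨y, rfl⟩ := Ideal.Quotient.mk_surjective y
  change Ideal.Quotient.mk (Ideal.span {f}) (PowerSeries.C π * x) =
    Ideal.Quotient.mk (Ideal.span {f}) (PowerSeries.C π * y) at h
  rw [Ideal.Quotient.eq, Ideal.mem_span_singleton'] at h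
  obtain ⟨z, hz⟩ := h
  have h2 := congrArg (PowerSeries.map (residue B)) hz
  rw [map_mul, map_sub, map_mul, map_mul, (map_residue_eq_zero_iff hπ (PowerSeries.C π)).2 dvd_rfl, zero_mul,
    zero_mul, sub_zero, mul_eq_zero] at h2
  have hf' : PowerSeries.map (residue B) f ≠ 0 := fun h0 => hf ((map_residue_eq_zero_iff hπ f).1 h0)
  obtain ⟨z', rfl⟩ := (map_residue_eq_zero_iff hπ z).1 (h2.resolve_right hf')
  have hC : (PowerSeries.C π : PowerSeries B) ≠ 0 := fun h0 => hπ0 (by simpa using congrArg PowerSeries.constantCoeff h0)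
  rw [Ideal.Quotient.eq, Ideal.mem_span_singleton']
  exact ⟨z', mul_left_cancel₀ hC (by linear_combination hz)⟩

lemma ql_C_pair (f : PowerSeries B) :
    ql (Ideal.span ({PowerSeries.C π, f} : Set (PowerSeries B))) =
      ql (Ideal.span ({PowerSeries.map (residue B) f} : Set (PowerSeries (ResidueField B)))) := by
  rw [ql_map (PowerSeries.map (residue B)) (PowerSeries.map_surjective _ residue_surjective) _ fun r hr => ?_,
    Ideal.map_span, Set.image_pair, (map_residue_eq_zero_iff hπ (PowerSeries.C π)).2 dvd_rfl, Ideal.span_insert,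
    Ideal.span_singleton_eq_bot.2 rfl, bot_sup_eq]
  obtain ⟨c, rfl⟩ := (map_residue_eq_zero_iff hπ r).1 hr
  exact Ideal.mul_mem_right _ _ (Ideal.subset_span (Or.inl rfl))

end Groth.Agent.NodeH28
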