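import Groth.Agent.Lib.NodeH28.Basic
import Mathlib.Tactic.LinearCombination

/-!
# Elements `t - αe` of the formal double point
-/

open IsLocalRing

universe u

namespace Groth.Agent.NodeH28

set_option linter.unusedSectionVars false

variable {B : Type u} [CommRing B] [IsLocalRing B] [IsNoetherianRing B] {π : B}
  (hπ : maximalIdeal B = Ideal.span {π})

local notation "N" => ArLef.NodeAlg B π
local notation "T" => ArLef.NodeAlg.t π
local notation "E" => ArLef.NodeAlg.e π

include hπ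

lemma sub_mul_notMem_sq {α : ArLef.NodeAlg B π} :
    T - α * E ∉ (Ideal.span ({ArLef.NodeAlg.t π, ArLef.NodeAlg.e π} : Set (ArLef.NodeAlg B π))) ^ 2 := by
  intro hmem
  have h := br_sq hπ 1 hmem
  rw [map_sub, map_mul, show br hπ 1 E = 0 from br_self hπ 1, mul_zero, sub_zero,
    show br hπ 1 T = PowerSeries.X from br_oth hπ 1, PowerSeries.X_pow_dvd_iff] at h
  have := h 1 one_lt_two
  rw [PowerSeries.coeff_one_X] at this
  exact one_ne_zero this

lemma regular_e_mod [IsDomain B] (hπ0 : π ≠ 0) (α : ArLef.NodeAlg B π) :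
    IsSMulRegular (N ⧸ Ideal.span ({T - α * E} : Set (ArLef.NodeAlg B π))) E := by
  haveI := isDomain hπ hπ0
  intro a b h
  obtain ⟨a, rfl⟩ := Ideal.Quotient.mk_surjective a
  obtain ⟨b, rfl⟩ := Ideal.Quotient.mk_surjective b
  change Ideal.Quotient.mk (Ideal.span {T - α * E}) (E * a) = Ideal.Quotient.mk (Ideal.span {T - α * E}) (E * b) at h
  rw [Ideal.Quotient.eq, Ideal.mem_span_singleton'] at h
  obtain ⟨z, hz⟩ := h
  have h2 := congrArg (br hπ 1) hz
  rw [map_mul, map_sub, map_mul, map_sub, map_mul, map_mul, show br hπ 1 E = 0 from br_self hπ 1,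
    show br hπ 1 T = PowerSeries.X from br_oth hπ 1, zero_mul, zero_mul, mul_zero, sub_zero, sub_zero,
    mul_eq_zero] at h2
  obtain ⟨z', rfl⟩ := (br_eq_zero_iff hπ 1 z).1 (h2.resolve_right PowerSeries.X_ne_zero)
  have he : E ≠ 0 := fun h0 => not_dvd_oth hπ 0 (show var π 0 ∣ var π 1 by rw [var_one, h0]; exact dvd_zero _)
  rw [Ideal.Quotient.eq, Ideal.mem_span_singleton']
  refine ⟨z', mul_left_cancel₀ he ?_⟩
  rw [var_one] at hz
  linear_combination hz

lemma span_pair_eq (α : ArLef.NodeAlg B π) :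
    Ideal.span ({E, T - α * E} : Set (ArLef.NodeAlg B π)) = Ideal.span ({ArLef.NodeAlg.t π, ArLef.NodeAlg.e π} : Set (ArLef.NodeAlg B π)) := by
  refine le_antisymm (Ideal.span_le.2 ?_) (Ideal.span_le.2 ?_)
  · rintro _ (rfl | rfl)
    · exact Ideal.subset_span (Or.inr rfl)
    · exact sub_mem (Ideal.subset_span (Or.inl rfl)) (Ideal.mul_mem_left _ _ (Ideal.subset_span (Or.inr rfl)))
  · rintro _ (rfl | rfl)
    · exact Ideal.mem_span_pair.2 ⟨α, 1, by ring⟩
    · exact Ideal.subset_span (Or.inl rfl)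

lemma pi_pow_sub_mem (α : ArLef.NodeAlg B π) (n : ℕ) :
    algebraMap B N π ^ n - α ^ n * E ^ (2 * n) ∈ Ideal.span ({T - α * E} : Set (ArLef.NodeAlg B π)) := by
  rw [← Ideal.Quotient.eq, ← show T * E = algebraMap B N π from var_mul_oth 0]
  have h : Ideal.Quotient.mk (Ideal.span ({T - α * E} : Set (ArLef.NodeAlg B π))) T =
      Ideal.Quotient.mk (Ideal.span ({T - α * E} : Set (ArLef.NodeAlg B π))) (α * E) :=
    Ideal.Quotient.eq.2 (Ideal.mem_span_singleton_self _)
  rw [map_pow, map_mul, h, ← map_mul, ← map_pow]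
  congr 1
  rw [pow_mul]
  ring

end Groth.Agent.NodeH28
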